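import Cfsg.Agent.H388.EP.Heis
import Cfsg.Agent.H861.ExtraRep
import Cfsg.Agent.H419.EP.Big
import Cfsg.Agent.H528.EP.UB3
import Cfsg.Agent.H948.EP.Eig
import Cfsg.Agent.S5542
import Cfsg.Agent.S2059
import Cfsg.Agent.S2085
import Cfsg.Agent.S1705

/-!
# S3499, layer V, the socle `M` (helper444, task 6099)

* `card_Q_le` : `|Q| ≤ 2 ^ 1092`;
* odd characteristic: `2^{1+24}` gives dimension at least 4096;
* `|F| = 2 ^ f` : the elements of order 59 and 71.
-/

set_option autoImplicit false

namespace Cfsg.Agent.H444.EP.Mon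

open Cfsg Cfsg.Agent.H203.LS Cfsg.Agent.H419.EP Cfsg.Agent.H284 Cfsg.Agent.H59.EP Cfsg.Agent.H388.EP
  Cfsg.Agent.H528.EP

universe v w

/-! ### the Monster -/

theorem card_M : Nat.card Spor.Monster = 808017424794512875886459904961710757005754368000000000 := S1705.result.2

theorem simple_M : IsSimpleGroup Spor.Monster := S1705.result.1

theorem card_aut_M : Nat.card (MulAut Spor.Monster) ∣ Nat.card Spor.Monster := by
  have h1 : (Inn Spor.Monster).index = 1 := S2085.result
  have h2 : Function.Surjective (MulAut.conj : Spor.Monster →* MulAut Spor.Monster) := by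
    rw [← MonoidHom.range_eq_top]
    exact Subgroup.index_eq_one.1 h1
  exact Subgroup.card_dvd_of_surjective _ h2

theorem noncomm_M : ¬ ∀ a b : Spor.Monster, a * b = b * a := by
  intro hcomm
  have hsim := simple_M
  have hfin : Finite Spor.Monster := Nat.finite_of_card_ne_zero (by rw [card_M]; norm_num)
  let _ : CommGroup Spor.Monster := { (inferInstance : Group Spor.Monster) with mul_comm := hcomm }
  have h1 : (Nat.card Spor.Monster).Prime := IsSimpleGroup.prime_card
  have h2 : 2 ∣ Nat.card Spor.Monster := by rw [card_M]; norm_num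
  have h3 := (Nat.prime_dvd_prime_iff_eq Nat.prime_two h1).1 h2
  rw [card_M] at h3
  omega

/-- a nontrivial representation of a simple group is faithful -/
theorem rep_inj' {G : Type*} [Group G] (hG : IsSimpleGroup G) {K V : Type*} [Field K] [AddCommGroup V] [Module K V]
    (ρ : G →* (V →ₗ[K] V)) (h : ∃ g, ρ g ≠ 1) : Function.Injective ρ := by
  have h1 : Function.Injective ρ.toHomUnits := by
    rw [← MonoidHom.ker_eq_bot_iff]
    rcases (MonoidHom.normal_ker ρ.toHomUnits).eq_bot_or_eq_top with h1 | h1
    · exact h1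
    · exfalso
      obtain ⟨g, hg⟩ := h
      apply hg
      have h2 : g ∈ ρ.toHomUnits.ker := by rw [h1]; exact Subgroup.mem_top _
      exact congrArg Units.val (MonoidHom.mem_ker.1 h2)
  intro a b hab
  exact h1 (Units.ext hab)

/-- degrees in odd characteristic -/
theorem ls_two : LS.{0, v, w} 2 4096 Spor.Monster := by
  refine ls_of_rep S2059.result ?_
  intro K _ _ V _ _ _ ρ h2 hρ
  obtain ⟨z, Q, _, ⟨-, -, hE, hc, -⟩, -⟩ := S5542.result
  exact H861.ExtraRep.dim_bound (w := 12) hE hc (by exact_mod_cast h2)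
    ((ρ.comp (Subgroup.subtype _)).comp (Subgroup.subtype _))
    ((rep_inj' simple_M ρ hρ).comp ((Subgroup.subtype_injective _).comp (Subgroup.subtype_injective _)))

/-! ### numbers -/

/-- the factorisation of the order -/
def l : List (ℕ × ℕ) := [(2, 46), (3, 20), (5, 9), (7, 6), (11, 2), (13, 3), (17, 1), (19, 1), (23, 1), (29, 1), (31, 1),
  (41, 1), (47, 1), (59, 1), (71, 1)]

theorem prod_l : (l.map fun x => x.1 ^ x.2).prod = 808017424794512875886459904961710757005754368000000000 := by
  decide +kernel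

theorem prime_l : ∀ x ∈ l, x.1.Prime ∧ 0 < x.2 := by
  intro x hx
  simp only [l, List.mem_cons, List.not_mem_nil, or_false] at hx
  rcases hx with rfl | rfl | rfl | rfl | rfl | rfl | rfl | rfl | rfl | rfl | rfl | rfl | rfl | rfl | rfl <;>
    exact ⟨by norm_num, by norm_num⟩

theorem gal_l : galSum 808017424794512875886459904961710757005754368000000000 ≤ 2 ^ 558 := by
  rw [← prod_l, (galSum_list l prime_l (by decide)).1]
  have h1 : (l.map fun x => gal x.1 x.2).sum ≤ (l.map fun x => x.2 * x.1 ^ ((x.2 + 1) ^ 2 / 4)).sum := by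
    apply List.sum_le_sum
    intro x hx
    exact gal_le (prime_l x hx).1.two_le
  refine h1.trans ?_
  decide +kernel

theorem ub_l : ubQ 808017424794512875886459904961710757005754368000000000 (2 ^ 558) ≤ 2 ^ 1092 := by
  decide +kernel

theorem eight : 8 * 2 ^ 1092 = 2 ^ 1095 := by decide +kernel

/-! ### the order of `Q` -/

section

variable {Q : Type} [Group Q] [Finite Q] {A : Subgroup Q} {Γ : Subgroup (MulAut Q)} {ι : Type} [Fintype ι]
    [DecidableEq ι] {F : Type} [Field F] [Fintype F] {S P : Subgroup (GL ι F)}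

theorem card_Q_le (hg : TwoGen.{0}) (b : Big A Γ S P) (e : socle P ≃* Spor.Monster) : Nat.card Q ≤ 2 ^ 1092 := by
  obtain ⟨f, hf⟩ := (b.hasSoc' e).exists_hom
  have hA : Nat.card A ∣ 808017424794512875886459904961710757005754368000000000 := by
    rw [← card_M]
    exact (Subgroup.card_dvd_of_injective f hf).trans card_aut_M
  exact (EPT.card_le_gen b.simple b.ept hg
    (fun K k1 k2 k3 => (b.hasSoc' e).no_abelian simple_M noncomm_M k1 k2 k3) (by norm_num) hA (by norm_num) gal_l).trans ub_l

/-- lower bounds for projective degrees apply to the core -/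
theorem le_of_ls (b : Big A Γ S P) {L : Type} [Group L] (e : socle P ≃* L) {r d : ℕ} (h : LS.{0, 0, 0} r d L)
    (hr : (r : F) ≠ 0) : d ≤ Fintype.card ι := by
  classical
  have hfin : Finite P := inferInstance
  let π : P →* L := e.toMonoidHom.comp (QuotientGroup.mk' ((Cfsg.Geo.scalars ι F).subgroupOf P))
  have hker : π.ker = (Cfsg.Geo.scalars ι F).subgroupOf P := by
    ext x
    rw [MonoidHom.mem_ker]
    show e (QuotientGroup.mk' _ x) = 1 ↔ _
    rw [map_eq_one_iff e e.injective]
    exact QuotientGroup.eq_one_iff x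
  let ρ : P →* GL (Fin (Fintype.card ι)) F :=
    (Units.mapEquiv (Matrix.reindexAlgEquiv F F (Fintype.equivFin ι) :
      Matrix ι ι F ≃ₐ[F] _).toMulEquiv).toMonoidHom.comp P.subtype
  refine h P π (e.surjective.comp (QuotientGroup.mk'_surjective _)) ?_ ?_ F hr (Fintype.card ι) ρ ?_
  · rw [hker]
    intro x hx
    rw [Subgroup.mem_center_iff]
    intro y
    apply Subtype.ext
    obtain ⟨c, hc⟩ := (Cfsg.Geo.mem_scalars_iff _).1 (Subgroup.mem_subgroupOf.1 hx)
    apply Units.ext
    show ((y : GL ι F) : Matrix ι ι F) * ((x : GL ι F) : Matrix ι ι F) =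
      ((x : GL ι F) : Matrix ι ι F) * ((y : GL ι F) : Matrix ι ι F)
    rw [hc, Matrix.mul_smul, Matrix.smul_mul, mul_one, one_mul]
  · have h1 := b.core.perfect
    apply Subgroup.map_injective P.subtype_injective
    rw [commutator_def, Subgroup.map_commutator, ← MonoidHom.range_eq_map, Subgroup.range_subtype]
    exact h1
  · intro h1
    apply b.core.nonabelian
    have h2 : ∀ x : P, x = 1 := by
      intro x
      have h3 := DFunLike.congr_fun h1 x
      apply P.subtype_injective
      apply (Units.mapEquiv (Matrix.reindexAlgEquiv F F (Fintype.equivFin ι) :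
        Matrix ι ι F ≃ₐ[F] _).toMulEquiv).injective
      rw [map_one, map_one]
      exact h3
    constructor
    constructor
    intro x y
    obtain ⟨x, rfl⟩ := QuotientGroup.mk_surjective x
    obtain ⟨y, rfl⟩ := QuotientGroup.mk_surjective y
    rw [h2 x, h2 y]

/-- an element of prime order `s` of the socle gives `(card F) ^ m ≡ 1 (mod s)` with `0 < m ≤ n` -/
theorem exists_pow (_b : Big A Γ S P) {L : Type} [Group L] (e : socle P ≃* L) {s : ℕ} (hs : s.Prime)
    (hsF : (s : F) ≠ 0) (hsL : s ∣ Nat.card L) :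
    ∃ m : ℕ, 0 < m ∧ m ≤ Fintype.card ι ∧ ((Fintype.card F : ℕ) : ZMod s) ^ m = 1 := by
  have hfact : Fact s.Prime := ⟨hs⟩
  have hfin : Finite P := inferInstance
  have h1 : s ∣ Nat.card P := by
    refine hsL.trans ?_
    rw [← Nat.card_congr e.toEquiv]
    exact Subgroup.card_quotient_dvd_card _
  obtain ⟨x, hx⟩ := exists_prime_orderOf_dvd_card' s h1
  have hx1 : ((x : GL ι F) : Matrix ι ι F) ^ s = 1 := by
    have h2 : x ^ s = 1 := by rw [← hx, pow_orderOf_eq_one]
    have h3 := congrArg (fun y : P => ((y : GL ι F) : Matrix ι ι F)) h2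
    simpa using h3
  have hx2 : ((x : GL ι F) : Matrix ι ι F) ≠ 1 := by
    intro h2
    have h3 : x = 1 := Subtype.ext (Units.ext h2)
    rw [h3, orderOf_one] at hx
    exact hs.one_lt.ne hx
  have h4 := H948.EP.ord_le hs hsF hx1 hx2
  refine ⟨_, ?_, h4, pow_orderOf_eq_one _⟩
  rw [orderOf_pos_iff, isOfFinOrder_iff_pow_eq_one]
  have hne : ((Fintype.card F : ℕ) : ZMod s) ≠ 0 := by
    intro h5
    rw [ZMod.natCast_eq_zero_iff] at h5
    apply hsF
    obtain ⟨p, hp, f, -, hf⟩ : ∃ p : ℕ, p.Prime ∧ ∃ f : ℕ+, True ∧ Fintype.card F = p ^ (f : ℕ) := by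
      obtain ⟨p, hcp⟩ := CharP.exists F
      obtain ⟨f, hp, hf⟩ := FiniteField.card F p
      exact ⟨p, hp, f, trivial, hf⟩
    have h6 : s = p := by
      rw [hf] at h5
      exact (Nat.prime_dvd_prime_iff_eq hs hp).1 (hs.dvd_of_dvd_pow h5)
    obtain ⟨p', hcp⟩ := CharP.exists F
    obtain ⟨f', hp', hf'⟩ := FiniteField.card F p'
    have h7 : p' = p := by
      have h8 : p' ∣ p ^ (f : ℕ) := by
        rw [← hf, hf']
        exact dvd_pow_self p' f'.2.ne'
      exact (Nat.prime_dvd_prime_iff_eq hp' hp).1 (hp'.dvd_of_dvd_pow h8)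
    rw [h6, ← h7]
    exact CharP.cast_eq_zero F p'
  exact ⟨s - 1, by have := hs.two_le; omega, ZMod.pow_card_sub_one_eq_one hne⟩

/-- **The socle `M` in the residual class, dimension at least 13.** -/
theorem row_M (hg : TwoGen.{0}) (b : Big A Γ S P) (h : Spor.IsoM (socle P)) : False := by
  obtain ⟨e⟩ := h
  have hQ := card_Q_le hg b e
  by_cases h2 : (2 : F) = 0
  · -- characteristic 2
    have hcp : CharP F 2 := by
      obtain ⟨p, hp⟩ := CharP.exists F
      have h3 : p ∣ 2 := (CharP.cast_eq_zero_iff F p 2).1 (by exact_mod_cast h2)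
      rcases (Nat.dvd_prime Nat.prime_two).1 h3 with rfl | rfl
      · exact absurd ((CharP.cast_eq_zero_iff F 1 1).2 dvd_rfl) (by rw [Nat.cast_one]; exact one_ne_zero)
      · exact hp
    obtain ⟨f, -, hf⟩ := FiniteField.card F 2
    have hf0 : 0 < (f : ℕ) := f.2
    have hodd : ∀ s : ℕ, ¬ 2 ∣ s → (s : F) ≠ 0 := fun s hs h0 => hs ((CharP.cast_eq_zero_iff F 2 s).1 h0)
    have hord := b.ord
    rw [hf, ← pow_mul] at hord
    have key : (f : ℕ) * (Fintype.card ι * (Fintype.card ι - 1) / 2) ≤ 1095 := by
      by_contra hcon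
      push Not at hcon
      have h3 : 2 ^ 1096 ≤ 8 * Nat.card Q := (Nat.pow_le_pow_right (by norm_num) hcon).trans hord
      have h4 : 8 * Nat.card Q ≤ 2 ^ 1095 := by
        calc 8 * Nat.card Q ≤ 8 * 2 ^ 1092 := Nat.mul_le_mul_left 8 hQ
          _ = 2 ^ 1095 := eight
      have h5 : 2 ^ 1096 ≤ 2 ^ 1095 := h3.trans h4
      rw [Nat.pow_le_pow_iff_right (by norm_num)] at h5
      omega
    have hmono : ∀ k : ℕ, k ≤ Fintype.card ι → (f : ℕ) * (k * (k - 1) / 2) ≤ 1095 := by
      intro k hk
      refine (Nat.mul_le_mul_left _ ?_).trans key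
      apply Nat.div_le_div_right
      exact Nat.mul_le_mul hk (by omega)
    -- the element of order 59
    obtain ⟨m, hm0, hmn, hm⟩ := exists_pow b e (by norm_num : Nat.Prime 59) (hodd 59 (by norm_num))
      (by rw [card_M]; norm_num)
    have h59 : 58 ∣ (f : ℕ) * m := by
      rw [hf] at hm
      push_cast at hm
      rw [← pow_mul] at hm
      have h3 : orderOf (2 : ZMod 59) = 58 := by
        have hfact : Fact (Nat.Prime 59) := ⟨by norm_num⟩
        apply orderOf_eq_of_pow_and_pow_div_prime (by norm_num)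
        · decide
        · intro p hp hpd
          have : p ∈ Nat.primeFactors 58 := Nat.mem_primeFactors.2 ⟨hp, hpd, by norm_num⟩
          have h4 : Nat.primeFactors 58 = {2, 29} := by decide +kernel
          rw [h4] at this
          simp only [Finset.mem_insert, Finset.mem_singleton] at this
          rcases this with rfl | rfl <;> decide
      rw [← h3]
      exact orderOf_dvd_of_pow_eq_one hm
    have h13 := hmono 13 b.thirteen
    by_cases h29 : 29 ∣ (f : ℕ)
    · have := Nat.le_of_dvd hf0 h29
      norm_num at h13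
      omega
    · have h30 : 29 ∣ m := by
        have h31 : 29 ∣ (f : ℕ) * m := dvd_trans (by norm_num) h59
        exact ((Nat.Prime.dvd_mul (by norm_num)).1 h31).resolve_left h29
      have h32 : 29 ≤ m := Nat.le_of_dvd hm0 h30
      have h33 := hmono 29 (h32.trans hmn)
      norm_num at h33
      have hf2 : (f : ℕ) ≤ 2 := by omega
      have hf12 : (f : ℕ) = 1 ∨ (f : ℕ) = 2 := by omega
      rcases hf12 with hf1 | hf1
      · rw [hf1, one_mul] at h59
        have h34 := Nat.le_of_dvd hm0 h59
        have h35 := hmono 58 (h34.trans hmn)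
        rw [hf1] at h35
        norm_num at h35
      · -- the element of order 71
        obtain ⟨m', hm0', hmn', hm'⟩ := exists_pow b e (by norm_num : Nat.Prime 71) (hodd 71 (by norm_num))
          (by rw [card_M]; norm_num)
        rw [hf, hf1] at hm'
        have h71 : 35 ∣ m' := by
          have h3 : orderOf (((2 ^ 2 : ℕ) : ZMod 71)) = 35 := by
            have hfact : Fact (Nat.Prime 71) := ⟨by norm_num⟩
            apply orderOf_eq_of_pow_and_pow_div_prime (by norm_num)
            · decide
            · intro p hp hpd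
              have : p ∈ Nat.primeFactors 35 := Nat.mem_primeFactors.2 ⟨hp, hpd, by norm_num⟩
              have h4 : Nat.primeFactors 35 = {5, 7} := by decide +kernel
              rw [h4] at this
              simp only [Finset.mem_insert, Finset.mem_singleton] at this
              rcases this with rfl | rfl <;> decide
          rw [← h3]
          exact orderOf_dvd_of_pow_eq_one hm'
        have h34 := Nat.le_of_dvd hm0' h71
        have h35 := hmono 35 (h34.trans hmn')
        rw [hf1] at h35
        norm_num at h35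
  · have hn := le_of_ls b e ls_two (by exact_mod_cast h2)
    have h3 := b.ord_two (N := 64) (by omega)
    have h4 : 8 * Nat.card Q ≤ 2 ^ 1095 := by
      calc 8 * Nat.card Q ≤ 8 * 2 ^ 1092 := Nat.mul_le_mul_left 8 hQ
        _ = 2 ^ 1095 := eight
    have h5 := h3.trans h4
    rw [Nat.pow_le_pow_iff_right (by norm_num)] at h5
    norm_num at h5

end

end Cfsg.Agent.H444.EP.Mon
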